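import Mathlib.Init

/-!
Labels of the 126 transpositions commuting with a non-commuting pair of presented Fi22 by the vectors of norm one
of a six-dimensional orthogonal space over the field with three elements, up to sign.
-/

set_option autoImplicit false
set_option maxRecDepth 100000

namespace Cfsg.Agent.Fi22Type

/-- The cosets, twelve bits each. -/
def ptN : Nat :=
  0x5575565555545534b64b54a149d49b49a49949549348948848648448348148046d46c46844f44e43243142d42c42b42a4074003ff3fc3fb3fa3f93f83f73f63f53f42c42c22c02be2bc2ba25325224524424323d23c1d61d51ce1cd1c01bf1b71b51b31b11af1ad1ac1ab1aa1a91a81a718b18a17a17917217117016f12312211511411311210e10a1091080fe0f70f60e90e80e70e60e50e40e30e20e10d708808708604c04b04a04903903803703602902802701d01c015014013012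

/-- The coded vectors, ten bits each. -/
def cdN : Nat :=
  0x17d300a17c1cc9b731b3271536c93d5654b594676e434431335616023c09469001852e00d1524d8c691ad1ec5149919681162059f461d47453e27c1b6d9682390122d040ad4c55d610d59c1ad4e005381c4f3709a81d82c5f503231a14757b1a829435311793c7352d188776a5341c1712590944d801e1aa7759a2455c5887f489480c58353c8448d41269210c8744d5ce541b11a19d201496650a24912

/-- The label of each coded vector, eight bits each. -/
def posN : Nat :=
  0xffffffffffffffff4cffffffffffffffff24ffff19ffff6f6844ffffffffffffffffff14ffffffffffffffff5effff37ffff20327affffff09ffff744013ffffff71ffff1a4569ff1604ff7046ffffffffffffffffffffffff6dffffffffffffffff3bffff76ffff4d0873ffffffffffffffffff52ffffffffffffffff1dffff0affff51772bffffff34ffff5d5457ffffff1effff5c3a27ff031cff4206ffffffffffff65ffff335358ffffff11ffff590e17ff0021ff6056ffffffffffff0bffff3e6a26ffffff50ffff102c72ff2a62ff7c2effffffff644aff3648ffffffff2202ff6b2fffffffffffffffffffffffff3cffffffffffffffff1dffffffffffffffff52ffff51ffff0a2b77ffffffffffffffffff3bffffffffffffffff6dffff4dffff767308ffffff5cffff1e273affffff5dffff3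45754ff0642ff1c03ffffffffffffffffffffffff5effffffffffffffff14ffff20ffff377a32ffffffffffffffffff24ffffffffffffffff4cffff6fffff194468ffffff1affff716945ffffff74ffff091340ff4670ff0416ffffffffffff10ffff50722cffffff3effff0b266aff2e7cff622affffffffffff59ffff11170effffff33ffff655853ff5660ff2100ffffffff2f6bff0222ffffffff4836ff4a64ffffffffffffffffffffffff3cffff1fffff5b3928ffffff55ffff121805ff253dff790cffffffffffff5fffff231b01ffffff75ffff4f0f78ff4935ff4b67ffffffff2d7dff6329ffffffff6e07ff3141ffffffffffffffffffffffff5affff4fffff75780fffffff23ffff5f011bff674bff3549ffffffffffff12ffff550518ffffff5bffff1f2839ff0c79ff3d25ffffffff4131ff076effffffff2963ff7d2dffffffffffffffffffffffff5a7b30ff4738ffffffff150dff6c43ffffffffffffffffffffffff4e436cff0d15ffffffff3847ff307bffffffffffffffffffffffff4effffffffffffffff66ffffffffffffffff66ffff61ffff613f3fff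

end Cfsg.Agent.Fi22Type
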