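import Cfsg.Agent.Lib.Fi22Local.PairSix
import Cfsg.Agent.Lib.Fi22Type.ReflData
import Cfsg.Prelude.Def_FischerSpaces
import Mathlib.LinearAlgebra.QuadraticForm.Basic

/-!
The joint centraliser of two non-commuting transpositions of presented Fi22 is the reflection group of a
six-dimensional orthogonal space of discriminant one over the field with three elements, modulo its centre.
-/

set_option autoImplicit false
set_option maxRecDepth 100000

namespace Cfsg.Agent.Fi22Type

open Cfsg.Agent.FischerPresented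
open Cfsg.Agent.CosetCert
open Cfsg.Agent.Fi22Local
open Cfsg.Agent.Fi22Local.PairSix (K₀)
open Matrix

/-! ### Vectors as numbers -/

/-- The space. -/
abbrev W : Type := Fin 6 → ZMod 3

/-- A digit. -/
def dg (a k : ℕ) : ℕ := Nat.mod (Nat.div a (3 ^ k)) 3

/-- The number of given digits. -/
def enc (F : ℕ → ℕ) : ℕ := F 0 + 3 * (F 1 + 3 * (F 2 + 3 * (F 3 + 3 * (F 4 + 3 * F 5))))

/-- The vector of a number. -/
def wv (a : ℕ) : W := fun k => (dg a k : ZMod 3)

/-- The number of a vector. -/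
def wcode (v : W) : ℕ := enc fun k => if h : k < 6 then (v ⟨k, h⟩).val else 0

theorem dg_eq (a k : ℕ) : dg a k = a / 3 ^ k % 3 := rfl

theorem dg_enc {F : ℕ → ℕ} (h : ∀ k, F k < 3) (k : Fin 6) : dg (enc F) k = F k := by
  have h0 := h 0
  have h1 := h 1
  have h2 := h 2
  have h3 := h 3
  have h4 := h 4
  have h5 := h 5
  fin_cases k <;> simp only [dg_eq, enc] <;> norm_num <;> omega

theorem enc_lt {F : ℕ → ℕ} (h : ∀ k, F k < 3) : enc F < 729 := by
  have h0 := h 0
  have h1 := h 1
  have h2 := h 2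
  have h3 := h 3
  have h4 := h 4
  have h5 := h 5
  simp only [enc]; omega

theorem wcode_lt (v : W) : wcode v < 729 := enc_lt fun k => by
  split
  · exact ZMod.val_lt _
  · norm_num

theorem wv_wcode (v : W) : wv (wcode v) = v := funext fun k => by
  rw [wv, wcode, dg_enc (fun k => by split; exacts [ZMod.val_lt _, by norm_num]) k, dif_pos k.2]
  exact ZMod.natCast_zmod_val _

/-- The product of two vectors. -/
def dotN (a b : ℕ) : ℕ :=
  Nat.mod (dg a 0 * dg b 0 + dg a 1 * dg b 1 + dg a 2 * dg b 2 + dg a 3 * dg b 3 + dg a 4 * dg b 4 +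
    dg a 5 * dg b 5) 3

/-- The reflection in the first vector applied to the second. -/
def rfN (a b : ℕ) : ℕ := enc fun k => (dg b k + dotN a b * dg a k) % 3

/-- The opposite vector. -/
def negN (a : ℕ) : ℕ := enc fun k => 2 * dg a k % 3

/-- The inner product. -/
def ip (v x : W) : ZMod 3 := ∑ k, v k * x k

/-- The reflection in a vector of norm one. -/
def rv (v x : W) : W := x + ip v x • v

theorem dotN_spec (a b : ℕ) : (dotN a b : ZMod 3) = ip (wv a) (wv b) := by
  rw [dotN, show ∀ n : ℕ, Nat.mod n 3 = n % 3 from fun _ => rfl, ZMod.natCast_mod, ip, Fin.sum_univ_six]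
  simp [wv]

theorem wv_rfN (a b : ℕ) : wv (rfN a b) = rv (wv a) (wv b) := funext fun k => by
  rw [wv, rfN, dg_enc (fun _ => Nat.mod_lt _ (by norm_num)) k]
  show (((dg b k + dotN a b * dg a k) % 3 : ℕ) : ZMod 3) = _
  rw [ZMod.natCast_mod]
  simp [rv, wv, dotN_spec]

theorem wv_negN (a : ℕ) : wv (negN a) = -wv a := funext fun k => by
  rw [wv, negN, dg_enc (fun _ => Nat.mod_lt _ (by norm_num)) k]
  show (((2 * dg a k) % 3 : ℕ) : ZMod 3) = _
  rw [ZMod.natCast_mod, Nat.cast_mul, Pi.neg_apply, wv]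
  generalize (dg a k : ZMod 3) = t
  revert t; decide

/-! ### The labelling -/

/-- A coset. -/
def ptf (i : ℕ) : ℕ := Nat.land (Nat.shiftRight ptN (Nat.mul 12 i)) 4095

/-- Its coded vector. -/
def cdf (i : ℕ) : ℕ := Nat.land (Nat.shiftRight cdN (Nat.mul 10 i)) 1023

/-- The label of a coded vector. -/
def posf (c : ℕ) : ℕ := Nat.land (Nat.shiftRight posN (Nat.mul 8 c)) 255

theorem pts_ok : (List.range 126).map ptf = PairSix.F := by decide +kernel

theorem cd_ok : ((List.range 126).all fun i =>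
    Nat.blt (cdf i) 729 && Nat.beq (dotN (cdf i) (cdf i)) 1 && Nat.beq (posf (cdf i)) i) = true := by
  decide +kernel

theorem cover_ok : allBelow (fun c => !(Nat.beq (dotN c c) 1) || (Nat.blt (posf c) 126 &&
    (Nat.beq (cdf (posf c)) c || Nat.beq (cdf (posf c)) (negN c)))) 729 = true := by decide +kernel

theorem table_ok : allBelow (fun i => allBelow (fun j =>
    Nat.beq (tappF (ptf i) (ptf j)) (ptf (posf (rfN (cdf i) (cdf j))))) 126) 126 = true := by decide +kernel

/-- The vector of a label. -/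
def lv (i : Fin 126) : W := wv (cdf i)

theorem lv_norm (i : Fin 126) : ip (lv i) (lv i) = 1 := by
  have h := List.all_eq_true.1 cd_ok i (List.mem_range.2 i.2)
  simp only [Bool.and_eq_true, Nat.beq_eq] at h
  rw [lv, ← dotN_spec, h.1.2, Nat.cast_one]

theorem lv_cover {v : W} (hv : ip v v = 1) : ∃ i, lv i = v ∨ lv i = -v := by
  have h := allBelow_spec cover_ok (wcode_lt v)
  have hd : Nat.beq (dotN (wcode v) (wcode v)) 1 = true := by
    rw [Nat.beq_eq]
    have h3 : dotN (wcode v) (wcode v) < 3 := Nat.mod_lt _ (by norm_num)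
    have he := dotN_spec (wcode v) (wcode v)
    rw [wv_wcode, hv] at he
    have := congrArg ZMod.val he
    rwa [ZMod.val_natCast, Nat.mod_eq_of_lt h3, ZMod.val_one] at this
  simp only [hd, Bool.not_true, Bool.false_or, Bool.and_eq_true, Bool.or_eq_true, Nat.blt_eq, Nat.beq_eq] at h
  refine ⟨⟨_, h.1⟩, h.2.imp (fun e => ?_) (fun e => ?_)⟩
  · show wv (cdf (posf (wcode v))) = v
    rw [e, wv_wcode]
  · show wv (cdf (posf (wcode v))) = -v
    rw [e, wv_negN, wv_wcode]

theorem lv_inj {i j : Fin 126} (h : lv i = lv j ∨ lv i = -lv j) : i = j := by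
  have hc : ∀ n : Fin 126, posf (cdf n) = (n : ℕ) ∧ cdf n < 729 := fun n => by
    have h := List.all_eq_true.1 cd_ok n (List.mem_range.2 n.2)
    simp only [Bool.and_eq_true, Nat.beq_eq, Nat.blt_eq] at h
    exact ⟨h.2, h.1.1⟩
  have hneg : ∀ n : Fin 126, posf (negN (cdf n)) = posf (cdf n) := by
    have : ((List.range 126).all fun n => Nat.beq (posf (negN (cdf n))) (posf (cdf n))) = true := by decide +kernel
    intro n
    exact Nat.eq_of_beq_eq_true (List.all_eq_true.1 this n (List.mem_range.2 n.2))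
  have key : ∀ {a b : ℕ}, a < 729 → b < 729 → wv a = wv b → a = b := by
    intro a b ha hb e
    have h : ∀ k : Fin 6, dg a k = dg b k := fun k => by
      have := congrArg ZMod.val (congrFun e k)
      simp only [wv, ZMod.val_natCast] at this
      rwa [Nat.mod_eq_of_lt (show dg a k < 3 from Nat.mod_lt _ (by norm_num)),
        Nat.mod_eq_of_lt (show dg b k < 3 from Nat.mod_lt _ (by norm_num))] at this
    have h0 := h 0; have h1 := h 1; have h2 := h 2; have h3 := h 3; have h4 := h 4; have h5 := h 5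
    simp only [dg_eq] at h0 h1 h2 h3 h4 h5
    norm_num at h0 h1 h2 h3 h4 h5
    omega
  refine Fin.ext ?_
  rw [← (hc i).1, ← (hc j).1]
  rcases h with e | e
  · rw [key (hc i).2 (hc j).2 e]
  · rw [← hneg j, key (hc i).2 (show negN (cdf j) < 729 from enc_lt fun _ => Nat.mod_lt _ (by norm_num))
      (show wv (cdf i) = wv (negN (cdf j)) by rw [wv_negN]; exact e)]

theorem pt_mem (i : Fin 126) : ptf i ∈ PairSix.F :=
  pts_ok ▸ List.mem_map.2 ⟨i, List.mem_range.2 i.2, rfl⟩

theorem pt_lt (i : Fin 126) : ptf i < 3510 := PairSix.F_lt (pt_mem i)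

theorem pt_inj {i j : Fin 126} (h : ptf i = ptf j) : i = j := by
  have hnd : ((List.range 126).map ptf).Nodup := pts_ok ▸ (by decide +kernel : PairSix.F.Nodup)
  exact Fin.ext ((List.inj_on_of_nodup_map hnd) (List.mem_range.2 i.2) (List.mem_range.2 j.2) h)

theorem exists_act (i j : Fin 126) : ∃ k : Fin 126, tapp (ptf i) (ptf j) = ptf k ∧
    (rv (lv i) (lv j) = lv k ∨ rv (lv i) (lv j) = -lv k) := by
  have h := allBelow_spec (allBelow_spec table_ok i.2) j.2
  rw [Nat.beq_eq, (tappF_eq (pt_lt i) (pt_lt j)).1] at h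
  have hv : ip (rv (lv i) (lv j)) (rv (lv i) (lv j)) = 1 := by
    have e1 := lv_norm i
    have e2 := lv_norm j
    have e3 : ip (lv j) (lv i) = ip (lv i) (lv j) := Finset.sum_congr rfl fun k _ => mul_comm _ _
    have : ip (rv (lv i) (lv j)) (rv (lv i) (lv j)) = ip (lv j) (lv j) + ip (lv i) (lv j) * ip (lv j) (lv i) +
        ip (lv i) (lv j) * ip (lv i) (lv j) + ip (lv i) (lv j) * ip (lv i) (lv j) * ip (lv i) (lv i) := by
      simp only [rv, ip, Pi.add_apply, Pi.smul_apply, smul_eq_mul, Fin.sum_univ_six]; ring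
    rw [this, e1, e2, e3]
    generalize ip (lv i) (lv j) = t
    revert t; decide
  rw [lv, lv, ← wv_rfN] at hv ⊢
  have hlt : rfN (cdf i) (cdf j) < 729 := enc_lt fun _ => Nat.mod_lt _ (by norm_num)
  have hd : Nat.beq (dotN (rfN (cdf i) (cdf j)) (rfN (cdf i) (cdf j))) 1 = true := by
    rw [Nat.beq_eq]
    have he := dotN_spec (rfN (cdf i) (cdf j)) (rfN (cdf i) (cdf j))
    rw [hv] at he
    have := congrArg ZMod.val he
    rwa [ZMod.val_natCast, Nat.mod_eq_of_lt
      (show dotN (rfN (cdf i) (cdf j)) (rfN (cdf i) (cdf j)) < 3 from Nat.mod_lt _ (by norm_num)), ZMod.val_one] at this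
  have hc := allBelow_spec cover_ok hlt
  simp only [hd, Bool.not_true, Bool.false_or, Bool.and_eq_true, Bool.or_eq_true, Nat.blt_eq, Nat.beq_eq] at hc
  refine ⟨⟨_, hc.1⟩, h, hc.2.imp (fun e => ?_) (fun e => ?_)⟩
  · show _ = wv (cdf (posf (rfN (cdf i) (cdf j))))
    rw [e]
  · show _ = -wv (cdf (posf (rfN (cdf i) (cdf j))))
    rw [e, wv_negN, neg_neg]

/-! ### The orthogonal space -/

/-- The sum of squares. -/
noncomputable def Qf : QuadraticForm (ZMod 3) W :=
  QuadraticMap.weightedSumSquares (ZMod 3) (fun _ : Fin 6 => (1 : ZMod 3))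

theorem Qf_apply (v : W) : Qf v = ip v v := by
  simp [Qf, ip, QuadraticMap.weightedSumSquares_apply]

theorem Qf_polar (u v : W) : QuadraticMap.polar Qf u v = 2 * ip u v := by
  simp only [QuadraticMap.polar, Qf_apply, ip, Pi.add_apply, Finset.mul_sum, ← Finset.sum_sub_distrib]
  exact Finset.sum_congr rfl fun k _ => by ring

theorem Qf_nondeg : (QuadraticMap.polarBilin Qf).Nondegenerate := by
  have hz : ∀ v : W, (∀ w, QuadraticMap.polar Qf v w = 0) → v = 0 := fun v h => funext fun k => by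
    have hk := h (Pi.single k 1)
    have e : ip v (Pi.single k 1) = v k := by
      rw [ip, Finset.sum_eq_single k (fun b _ hb => by simp [Pi.single_eq_of_ne hb])
        (fun h => absurd (Finset.mem_univ k) h), Pi.single_eq_same, mul_one]
    rw [Qf_polar, e] at hk
    simp only [Pi.zero_apply]
    generalize v k = t at hk
    revert hk; revert t; decide
  exact ⟨fun v h => hz v h, fun v h => hz v fun w => by
    rw [QuadraticMap.polar_comm]; exact h w⟩

theorem Qf_det : Cfsg.polarGramDet (⇑Qf) = 1 := by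
  have : (Matrix.of fun i j : Fin 6 => QuadraticMap.polar (⇑Qf) (Pi.single i 1) (Pi.single j 1)) =
      Matrix.diagonal (fun _ : Fin 6 => (2 : ZMod 3)) := by
    ext i j
    rw [Matrix.of_apply, Qf_polar, ip, Finset.sum_eq_single i
      (fun b _ hb => by simp [Pi.single_eq_of_ne hb]) (fun h => absurd (Finset.mem_univ i) h),
      Pi.single_eq_same, one_mul, Matrix.diagonal_apply]
    rcases eq_or_ne i j with rfl | h
    · simp
    · rw [Pi.single_eq_of_ne h, mul_zero, if_neg h]
  rw [Cfsg.polarGramDet, this, Matrix.det_diagonal, Fin.prod_const]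
  decide

theorem refl_mulVec {v : W} (hv : ip v v = 1) (x : W) : Cfsg.reflectionMatrix (⇑Qf) v *ᵥ x = rv v x := by
  have hp : Cfsg.polarVec (⇑Qf) v = fun j => 2 * v j := funext fun j => by
    rw [Cfsg.polarVec, Qf_polar, ip, Finset.sum_eq_single j (fun b _ hb => by simp [Pi.single_eq_of_ne hb])
      (fun h => absurd (Finset.mem_univ j) h), Pi.single_eq_same, mul_one]
  rw [Cfsg.reflectionMatrix, Qf_apply, hv, inv_one, one_smul, Matrix.sub_mulVec, Matrix.one_mulVec,
    Matrix.vecMulVec_mulVec, hp]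
  funext k
  simp only [rv, ip, Pi.sub_apply, Pi.add_apply, Pi.smul_apply, smul_eq_mul, MulOpposite.smul_eq_mul_unop,
    MulOpposite.unop_op, dotProduct, Finset.sum_mul, Finset.mul_sum]
  rw [sub_eq_add_neg, ← Finset.sum_neg_distrib]
  congr 1
  refine Finset.sum_congr rfl fun i _ => ?_
  generalize v i = a
  generalize x i = b
  generalize v k = c
  revert a b c; decide

/-- The reflection group. -/
noncomputable abbrev M : Subgroup (Cfsg.isometryGroup (ZMod 3) (⇑Qf)) := Cfsg.reflectionSubgroup (⇑Qf) 1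

/-- The matrix of an element. -/
noncomputable def mtx (g : Cfsg.isometryGroup (ZMod 3) (⇑Qf)) : Matrix (Fin 6) (Fin 6) (ZMod 3) :=
  ((g : Matrix.GeneralLinearGroup (Fin 6) (ZMod 3)) : Matrix (Fin 6) (Fin 6) (ZMod 3))

/-- The image of a vector under an element. -/
noncomputable def ap (g : Cfsg.isometryGroup (ZMod 3) (⇑Qf)) (v : W) : W := mtx g *ᵥ v

theorem ap_mul (g h : Cfsg.isometryGroup (ZMod 3) (⇑Qf)) (v : W) : ap (g * h) v = ap g (ap h v) := by
  simp [ap, mtx, Matrix.mulVec_mulVec]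

theorem ap_one (v : W) : ap 1 v = v := by simp [ap, mtx]

theorem ap_neg (g : Cfsg.isometryGroup (ZMod 3) (⇑Qf)) (v : W) : ap g (-v) = -ap g v :=
  Matrix.mulVec_neg _ _

theorem ap_smul (g : Cfsg.isometryGroup (ZMod 3) (⇑Qf)) (t : ZMod 3) (v : W) : ap g (t • v) = t • ap g v :=
  Matrix.mulVec_smul _ _ _

theorem ap_add (g : Cfsg.isometryGroup (ZMod 3) (⇑Qf)) (u v : W) : ap g (u + v) = ap g u + ap g v :=
  Matrix.mulVec_add _ _ _

theorem ap_norm (g : Cfsg.isometryGroup (ZMod 3) (⇑Qf)) (v : W) : ip (ap g v) (ap g v) = ip v v := by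
  rw [← Qf_apply, ← Qf_apply]
  exact g.2 v v

theorem ap_ip (g : Cfsg.isometryGroup (ZMod 3) (⇑Qf)) (u v : W) : ip (ap g u) (ap g v) = ip u v := by
  have h : 2 * ip (ap g u) (ap g v) = 2 * ip u v := by
    rw [← Qf_polar, ← Qf_polar]
    simp only [QuadraticMap.polar, Qf_apply, ← ap_add, ap_norm]
  revert h
  generalize ip (ap g u) (ap g v) = a
  generalize ip u v = b
  revert a b; decide

theorem ext_ap {g h : Cfsg.isometryGroup (ZMod 3) (⇑Qf)} (e : ∀ v, ap g v = ap h v) : g = h :=
  Subtype.ext (Units.ext (Matrix.ext_of_mulVec_single fun i => e _))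

theorem exists_refl (i : Fin 126) : ∃ r : Cfsg.isometryGroup (ZMod 3) (⇑Qf),
    r ∈ Cfsg.reflectionsOfNorm (⇑Qf) 1 ∧ ∀ x, ap r x = rv (lv i) x := by
  have hm := refl_mulVec (lv_norm i)
  have hsq : Cfsg.reflectionMatrix (⇑Qf) (lv i) * Cfsg.reflectionMatrix (⇑Qf) (lv i) = 1 := by
    refine Matrix.ext_of_mulVec_single fun k => ?_
    rw [← Matrix.mulVec_mulVec, hm, hm, Matrix.one_mulVec]
    generalize (Pi.single k 1 : W) = x
    have e : ip (lv i) (rv (lv i) x) = ip (lv i) x + ip (lv i) x * ip (lv i) (lv i) := by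
      simp only [rv, ip, Pi.add_apply, Pi.smul_apply, smul_eq_mul, Fin.sum_univ_six]; ring
    rw [rv, e, lv_norm, mul_one, rv, add_assoc, ← add_smul]
    generalize ip (lv i) x = t
    rw [show t + (t + t) = 0 by revert t; decide, zero_smul, add_zero]
  let u : Matrix.GeneralLinearGroup (Fin 6) (ZMod 3) := ⟨_, _, hsq, hsq⟩
  have hu : u ∈ Cfsg.isometryGroup (ZMod 3) (⇑Qf) := fun v w => by
    show Qf (Cfsg.reflectionMatrix (⇑Qf) (lv i) *ᵥ v) = Qf v
    rw [hm, Qf_apply, Qf_apply]
    have e : ip (rv (lv i) v) (rv (lv i) v) =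
        ip v v + 2 * (ip (lv i) v * ip (lv i) v) + ip (lv i) v * ip (lv i) v * ip (lv i) (lv i) := by
      simp only [rv, ip, Pi.add_apply, Pi.smul_apply, smul_eq_mul, Fin.sum_univ_six]; ring
    rw [e, lv_norm]
    generalize ip v v = a
    generalize ip (lv i) v = b
    revert a b; decide
  exact ⟨⟨u, hu⟩, ⟨lv i, by rw [Qf_apply, lv_norm], rfl⟩, fun x => hm x⟩

theorem refl_cases {r : Cfsg.isometryGroup (ZMod 3) (⇑Qf)} (hr : r ∈ Cfsg.reflectionsOfNorm (⇑Qf) 1) :
    ∃ i, ∀ x, ap r x = rv (lv i) x := by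
  obtain ⟨v, hv, hr⟩ := hr
  rw [Qf_apply] at hv
  obtain ⟨i, hi⟩ := lv_cover hv
  refine ⟨i, fun x => ?_⟩
  rw [ap, mtx, hr, refl_mulVec hv]
  rcases hi with e | e
  · rw [e]
  · rw [e]
    have : ip (-v) x = -ip v x := by simp [ip, Finset.sum_neg_distrib]
    simp [rv, this]

/-! ### The two permutation representations -/

/-- The effect of an element of presented Fi22 on the labels. -/
def RelK (g : GG) (σ : Equiv.Perm (Fin 126)) : Prop := ∀ i : Fin 126, apt g (ptf i) = ptf (σ i)

/-- The effect of an isometry on the labels. -/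
def RelM (g : Cfsg.isometryGroup (ZMod 3) (⇑Qf)) (σ : Equiv.Perm (Fin 126)) : Prop :=
  ∀ i, ap g (lv i) = lv (σ i) ∨ ap g (lv i) = -lv (σ i)

theorem RelK.unique {g : GG} {σ τ : Equiv.Perm (Fin 126)} (h : RelK g σ) (h' : RelK g τ) : σ = τ :=
  Equiv.ext fun i => pt_inj ((h i).symm.trans (h' i))

theorem RelM.unique {g : Cfsg.isometryGroup (ZMod 3) (⇑Qf)} {σ τ : Equiv.Perm (Fin 126)} (h : RelM g σ)
    (h' : RelM g τ) : σ = τ := Equiv.ext fun i => lv_inj (by
  rcases h i with a | a <;> rcases h' i with b | b <;> rw [a] at b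
  · exact Or.inl b
  · exact Or.inr b
  · exact Or.inr (by rw [← b, neg_neg])
  · exact Or.inl (neg_injective b))

theorem RelK.one : RelK 1 1 := fun i => apt_one _

theorem RelM.one : RelM 1 1 := fun i => Or.inl (ap_one _)

theorem RelK.mul {g h : GG} {σ τ : Equiv.Perm (Fin 126)} (hg : RelK g σ) (hh : RelK h τ) :
    RelK (g * h) (σ * τ) := fun i => by rw [apt_mul, hh, hg]; rfl

theorem RelM.mul {g h : Cfsg.isometryGroup (ZMod 3) (⇑Qf)} {σ τ : Equiv.Perm (Fin 126)} (hg : RelM g σ)
    (hh : RelM h τ) : RelM (g * h) (σ * τ) := fun i => by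
  rw [ap_mul]
  rcases hh i with a | a <;> rcases hg (τ i) with b | b <;> rw [a] <;>
    simp only [ap_neg, b, neg_neg, Equiv.Perm.mul_apply, true_or, or_true]

theorem RelK.inv {g : GG} {σ : Equiv.Perm (Fin 126)} (hg : RelK g σ) : RelK g⁻¹ σ⁻¹ := fun i => by
  have h := hg (σ⁻¹ i)
  rw [show σ (σ⁻¹ i) = i from σ.apply_symm_apply i] at h
  rw [← h, ← apt_mul, inv_mul_cancel, apt_one]

theorem RelM.inv {g : Cfsg.isometryGroup (ZMod 3) (⇑Qf)} {σ : Equiv.Perm (Fin 126)} (hg : RelM g σ) :
    RelM g⁻¹ σ⁻¹ := fun i => by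
  have h := hg (σ⁻¹ i)
  rw [show σ (σ⁻¹ i) = i from σ.apply_symm_apply i] at h
  rcases h with h | h
  · exact Or.inl (by rw [← h, ← ap_mul, inv_mul_cancel, ap_one])
  · exact Or.inr (by rw [← neg_neg (lv i), ← h, ap_neg, ← ap_mul, inv_mul_cancel, ap_one])

/-- The permutation of a generator. -/
noncomputable def gperm (i : Fin 126) : Equiv.Perm (Fin 126) :=
  Equiv.ofBijective (fun j => (exists_act i j).choose) (Finite.injective_iff_bijective.1 fun a b e => by
    have ha := (exists_act i a).choose_spec.1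
    have hb := (exists_act i b).choose_spec.1
    rw [show (exists_act i a).choose = (exists_act i b).choose from e, ← hb, ← apt_trN (pt_lt i) (pt_lt a), ← apt_trN (pt_lt i) (pt_lt b)] at ha
    exact pt_inj (apt_injective _ ha))

theorem gperm_K (i : Fin 126) : RelK (trN (ptf i)) (gperm i) := fun j => by
  rw [apt_trN (pt_lt i) (pt_lt j)]
  exact (exists_act i j).choose_spec.1

theorem gperm_M {r : Cfsg.isometryGroup (ZMod 3) (⇑Qf)} {i : Fin 126} (hr : ∀ x, ap r x = rv (lv i) x) :
    RelM r (gperm i) := fun j => by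
  rw [hr]
  exact (exists_act i j).choose_spec.2

/-- The permutations obtained. -/
noncomputable def img : Subgroup (Equiv.Perm (Fin 126)) := Subgroup.closure (Set.range gperm)

theorem relK_total {g : GG} (hg : g ∈ K₀) : ∃ σ ∈ img, RelK g σ := by
  unfold PairSix.K₀ at hg
  induction hg using Subgroup.closure_induction with
  | mem x hx =>
    obtain ⟨p, hp, rfl⟩ := hx
    rw [← pts_ok] at hp
    obtain ⟨i, hi, rfl⟩ := List.mem_map.1 hp
    exact ⟨_, Subgroup.subset_closure ⟨⟨i, List.mem_range.1 hi⟩, rfl⟩, gperm_K ⟨i, List.mem_range.1 hi⟩⟩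
  | one => exact ⟨1, one_mem _, RelK.one⟩
  | mul x y _ _ hx hy =>
    obtain ⟨σ, hσ, rσ⟩ := hx
    obtain ⟨τ, hτ, rτ⟩ := hy
    exact ⟨_, mul_mem hσ hτ, rσ.mul rτ⟩
  | inv x _ hx =>
    obtain ⟨σ, hσ, rσ⟩ := hx
    exact ⟨_, inv_mem hσ, rσ.inv⟩

theorem relM_total {g : Cfsg.isometryGroup (ZMod 3) (⇑Qf)} (hg : g ∈ M) : ∃ σ ∈ img, RelM g σ := by
  induction hg using Subgroup.closure_induction with
  | mem x hx =>
    obtain ⟨i, hi⟩ := refl_cases hx
    exact ⟨_, Subgroup.subset_closure ⟨i, rfl⟩, gperm_M hi⟩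
  | one => exact ⟨1, one_mem _, RelM.one⟩
  | mul x y _ _ hx hy =>
    obtain ⟨σ, hσ, rσ⟩ := hx
    obtain ⟨τ, hτ, rτ⟩ := hy
    exact ⟨_, mul_mem hσ hτ, rσ.mul rτ⟩
  | inv x _ hx =>
    obtain ⟨σ, hσ, rσ⟩ := hx
    exact ⟨_, inv_mem hσ, rσ.inv⟩

/-- The representation of the joint centraliser. -/
noncomputable def homK : K₀ →* img where
  toFun g := ⟨_, (relK_total g.2).choose_spec.1⟩
  map_one' := Subtype.ext (((relK_total (one_mem K₀)).choose_spec.2).unique RelK.one)
  map_mul' g h := Subtype.ext (((relK_total (g * h).2).choose_spec.2).unique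
    ((relK_total g.2).choose_spec.2.mul (relK_total h.2).choose_spec.2))

theorem homK_rel (g : K₀) : RelK g (homK g : Equiv.Perm (Fin 126)) := (relK_total g.2).choose_spec.2

/-- The representation of the reflection group. -/
noncomputable def homM : M →* img where
  toFun g := ⟨_, (relM_total g.2).choose_spec.1⟩
  map_one' := Subtype.ext (((relM_total (one_mem M)).choose_spec.2).unique RelM.one)
  map_mul' g h := Subtype.ext (((relM_total (g * h).2).choose_spec.2).unique
    ((relM_total g.2).choose_spec.2.mul (relM_total h.2).choose_spec.2))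

theorem homM_rel (g : M) : RelM g (homM g : Equiv.Perm (Fin 126)) := (relM_total g.2).choose_spec.2

theorem homK_surj : Function.Surjective homK := fun ⟨σ, hσ⟩ => by
  unfold img at hσ
  induction hσ using Subgroup.closure_induction with
  | mem x hx =>
    obtain ⟨i, rfl⟩ := hx
    exact ⟨⟨_, PairSix.tr_mem (pt_mem i)⟩, Subtype.ext ((homK_rel _).unique (gperm_K i))⟩
  | one => exact ⟨1, map_one _⟩
  | mul x y _ _ hx hy =>
    obtain ⟨a, ha⟩ := hx
    obtain ⟨b, hb⟩ := hy
    exact ⟨a * b, Subtype.ext (by rw [map_mul, ha, hb]; rfl)⟩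
  | inv x _ hx =>
    obtain ⟨a, ha⟩ := hx
    exact ⟨a⁻¹, Subtype.ext (by rw [map_inv, ha]; rfl)⟩

theorem homM_surj : Function.Surjective homM := fun ⟨σ, hσ⟩ => by
  unfold img at hσ
  induction hσ using Subgroup.closure_induction with
  | mem x hx =>
    obtain ⟨i, rfl⟩ := hx
    obtain ⟨r, hr, e⟩ := exists_refl i
    exact ⟨⟨r, Subgroup.subset_closure hr⟩, Subtype.ext ((homM_rel _).unique (gperm_M e))⟩
  | one => exact ⟨1, map_one _⟩
  | mul x y _ _ hx hy =>
    obtain ⟨a, ha⟩ := hx
    obtain ⟨b, hb⟩ := hy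
    exact ⟨a * b, Subtype.ext (by rw [map_mul, ha, hb]; rfl)⟩
  | inv x _ hx =>
    obtain ⟨a, ha⟩ := hx
    exact ⟨a⁻¹, Subtype.ext (by rw [map_inv, ha]; rfl)⟩

theorem homK_inj : Function.Injective homK := by
  rw [← MonoidHom.ker_eq_bot_iff, eq_bot_iff, ← PairSix.center_K]
  intro g hg
  rw [MonoidHom.mem_ker] at hg
  have hc : ∀ k : GG, k ∈ K₀ → Commute (g : GG) k := by
    intro k hk
    unfold PairSix.K₀ at hk
    induction hk using Subgroup.closure_induction with
    | mem x hx =>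
      obtain ⟨p, hp, rfl⟩ := hx
      rw [← pts_ok] at hp
      obtain ⟨i, hi, rfl⟩ := List.mem_map.1 hp
      have h := homK_rel g ⟨i, List.mem_range.1 hi⟩
      rw [hg] at h
      exact (apt_fix_iff _ (pt_lt ⟨i, List.mem_range.1 hi⟩)).1 h
    | one => exact Commute.one_right _
    | mul x y _ _ hx hy => exact hx.mul_right hy
    | inv x _ hx => exact hx.inv_right
  exact Subgroup.mem_center_iff.2 fun k => Subtype.ext (hc k k.2).eq.symm

theorem ker_homM : homM.ker = Subgroup.center M := by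
  refine le_antisymm (fun g hg => ?_) fun g hg => ?_
  · rw [MonoidHom.mem_ker] at hg
    have hc : ∀ k : Cfsg.isometryGroup (ZMod 3) (⇑Qf), k ∈ M → Commute (g : Cfsg.isometryGroup (ZMod 3) (⇑Qf)) k := by
      intro k hk
      induction hk using Subgroup.closure_induction with
      | mem x hx =>
        obtain ⟨i, hi⟩ := refl_cases hx
        refine ext_ap fun v => ?_
        have h := homM_rel g i
        rw [hg] at h
        change ap g.1 (lv i) = lv i ∨ ap g.1 (lv i) = -lv i at h
        rw [ap_mul, ap_mul, hi, hi, rv, ap_add, ap_smul, rv]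
        rcases h with h | h
        · rw [h, ← ap_ip g.1 (lv i) v, h]
        · rw [h, ← ap_ip g.1 (lv i) v, h]
          simp [ip, Finset.sum_neg_distrib]
      | one => exact Commute.one_right _
      | mul x y _ _ hx hy => exact hx.mul_right hy
      | inv x _ hx => exact hx.inv_right
    exact Subgroup.mem_center_iff.2 fun k => Subtype.ext (hc k k.2).eq.symm
  · rw [MonoidHom.mem_ker]
    refine Subtype.ext ((homM_rel g).unique fun i => ?_)
    show ap g.1 (lv i) = lv i ∨ ap g.1 (lv i) = -lv i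
    obtain ⟨r, hr, e⟩ := exists_refl i
    have hc : g.1 * r = r * g.1 :=
      (congrArg Subtype.val (Subgroup.mem_center_iff.1 hg ⟨r, Subgroup.subset_closure hr⟩)).symm
    have h := congrArg (fun k => ap k (lv i)) hc
    simp only [ap_mul, e] at h
    rw [rv, lv_norm, one_smul, ap_add, rv] at h
    set w := ap g.1 (lv i)
    set t := ip (lv i) w
    have hw : w = t • lv i := add_left_cancel h
    have ht : t * t = 1 := by
      have := ap_norm g.1 (lv i)
      change ip w w = _ at this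
      have e2 : ip (t • lv i) (t • lv i) = t * t * ip (lv i) (lv i) := by
        simp only [ip, Pi.smul_apply, smul_eq_mul, Finset.mul_sum]
        exact Finset.sum_congr rfl fun _ _ => by ring
      rwa [hw, e2, lv_norm, mul_one] at this
    have : ∀ s : ZMod 3, s * s = 1 → s = 1 ∨ s = -1 := by decide
    rcases this t ht with h1 | h1 <;> rw [hw, h1]
    · exact Or.inl (one_smul _ _)
    · exact Or.inr (neg_one_smul _ _)

/-- The joint centraliser of a non-commuting pair is the projective reflection group. -/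
theorem reflection_K : Cfsg.IsProjReflectionGroupModThree K₀ 6 1 1 :=
  ⟨Qf, Qf_nondeg, Qf_det, ⟨((MulEquiv.ofBijective homK ⟨homK_inj, homK_surj⟩).trans
    (QuotientGroup.quotientKerEquivOfSurjective homM homM_surj).symm).trans
    (QuotientGroup.quotientMulEquivOfEq ker_homM)⟩⟩

end Cfsg.Agent.Fi22Type
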