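import Cfsg.Agent.Lib.Fi22Type.Refl
import Cfsg.Agent.Lib.FischerUnique.Presented
import Cfsg.Agent.Lib.Qd.Basic

/-!
The presented Fi22 with its transpositions, and every isomorphic copy, is of type M(22).
-/

set_option autoImplicit false
set_option maxRecDepth 100000

namespace Cfsg.Agent.Fi22Type

open Cfsg.Agent.FischerPresented
open Cfsg.Agent.CosetCert
open Cfsg.Agent.Fi22Local
open Cfsg.Agent.Fischer.Factor (Nb)

universe u

theorem center_GG : Subgroup.center GG = ⊥ := by
  have := FischerPresented.Fi22.isSimpleGroup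
  refine (Subgroup.center GG).normal_of_characteristic.eq_bot_or_eq_top.resolve_right fun h => ?_
  refine PairSix.not_commute ?_
  exact Subgroup.mem_center_iff.1 (h ▸ Subgroup.mem_top PairSix.d₀) PairSix.a₀

variable {G : Type u} [Group G]

/-- Isomorphic copies are generated by a class of 3-transpositions. -/
theorem isClass_map (e : GG ≃* G) {D : Set G} (he : e '' Fi22Class.D = D) :
    Cfsg.IsThreeTranspositionClass D := by
  obtain ⟨⟨h1, h2⟩, ⟨d, hd, hD⟩, h3⟩ := Fi22Class.isClass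
  subst he
  refine ⟨⟨?_, ?_⟩, ⟨e d, ⟨d, hd, rfl⟩, ?_⟩, ?_⟩
  · rintro _ ⟨x, hx, rfl⟩
    rw [← h1 x hx]
    exact orderOf_injective e.toMonoidHom e.injective x
  · rintro _ ⟨x, hx, rfl⟩ _ ⟨y, hy, rfl⟩
    rcases h2 x hx y hy with h | h
    · left; rw [← map_mul, ← map_pow, h, map_one]
    · right; rw [← map_mul, ← map_pow, h, map_one]
  · ext y
    obtain ⟨w, rfl⟩ := e.surjective y
    rw [Function.Injective.mem_set_image e.injective, hD]
    show IsConj d w ↔ IsConj (e d) (e w)
    rw [isConj_iff, isConj_iff]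
    constructor
    · rintro ⟨c, hc⟩
      exact ⟨e c, by rw [← map_inv, ← map_mul, ← map_mul, hc]⟩
    · rintro ⟨c, hc⟩
      obtain ⟨c, rfl⟩ := e.surjective c
      rw [← map_inv, ← map_mul, ← map_mul] at hc
      exact ⟨c, e.injective hc⟩
  · rw [← Subgroup.map_top_of_surjective e.toMonoidHom e.surjective, ← h3, MonoidHom.map_closure]
    rfl

/-- Isomorphic copies are of type M(22). -/
theorem type_m22 (e : GG ≃* G) {D : Set G} (he : e '' Fi22Class.D = D) : Cfsg.IsOfTypeM22 G D := by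
  have hz : (Fi22Class.z : GG) = PairSix.a₀ := by
    rw [show PairSix.a₀ = trN 0 from rfl, trN_eq (show 0 < 3510 by norm_num)]
    exact (Out22.tr_word (v := []) (p := (0 : Fin 3510)) rfl (by decide +kernel)).symm
  have hmem : ∀ {p : ℕ}, p < 3510 → e (trN p) ∈ D := fun hp => he ▸ ⟨_, trN_mem hp, rfl⟩
  refine ⟨?_, e PairSix.a₀, hmem (by norm_num), e PairSix.d₀, hmem (by norm_num),
    fun h => PairSix.not_commute (by simpa using h.map e.symm), ⟨RigidGraph.He.K4, inferInstance, inferInstance, RigidGraph.He.K4.card_K4, ?_⟩,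
    1, one_ne_zero, ?_⟩
  · rw [← Qd.map_center_eq e, center_GG, Subgroup.map_bot]
  · have hset : {y : G | y ∈ D ∧ y ≠ e PairSix.a₀ ∧ Commute (e PairSix.a₀) y} =
        e '' Nb Fi22Class.D Fi22Class.z := by
      ext y
      obtain ⟨w, rfl⟩ := e.surjective y
      rw [Function.Injective.mem_set_image e.injective, ← he, hz]
      simp only [Set.mem_setOf_eq, Nb, Function.Injective.mem_set_image e.injective, ne_eq, e.injective.eq_iff]
      exact and_congr_right fun _ => and_congr_right fun _ =>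
        ⟨fun h => by simpa using h.map e.symm, fun h => h.map e⟩
    have hcl : Subgroup.closure {y : G | y ∈ D ∧ y ≠ e PairSix.a₀ ∧ Commute (e PairSix.a₀) y} =
        Fi22.H.map e.toMonoidHom := by
      rw [hset, ← FischerUnique.closure_nb_z, MonoidHom.map_closure]; rfl
    let E : Fi22.H ≃* ↥(Subgroup.closure {y : G | y ∈ D ∧ y ≠ e PairSix.a₀ ∧ Commute (e PairSix.a₀) y}) :=
      (e.subgroupMap _).trans (MulEquiv.subgroupCongr hcl.symm)
    have hker : U62.θ.ker = Subgroup.center Fi22.H := U62.center_H.symm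
    exact ⟨((QuotientGroup.congr _ _ E (Qd.map_center_eq E)).symm.trans
      (QuotientGroup.quotientMulEquivOfEq hker.symm)).trans
      (QuotientGroup.quotientKerEquivOfSurjective U62.θ U62.surjective)⟩
  · have hset : {y : G | y ∈ D ∧ y ≠ e PairSix.a₀ ∧ Commute (e PairSix.a₀) y} ∩
        {y : G | y ∈ D ∧ y ≠ e PairSix.d₀ ∧ Commute (e PairSix.d₀) y} =
        {y : G | y ∈ D ∧ Commute (e PairSix.a₀) y ∧ Commute (e PairSix.d₀) y} := by
      have hnc : ¬ Commute (e PairSix.a₀) (e PairSix.d₀) := fun h =>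
        PairSix.not_commute (by simpa using h.map e.symm)
      ext y
      exact ⟨fun h => ⟨h.1.1, h.1.2.2, h.2.2.2⟩,
        fun h => ⟨⟨h.1, fun q => hnc (q ▸ h.2.2).symm, h.2.1⟩, h.1, fun q => hnc (q ▸ h.2.1), h.2.2⟩⟩
    have hL : Subgroup.closure ({y : G | y ∈ D ∧ y ≠ e PairSix.a₀ ∧ Commute (e PairSix.a₀) y} ∩
        {y : G | y ∈ D ∧ y ≠ e PairSix.d₀ ∧ Commute (e PairSix.d₀) y}) = PairSix.K₀.map e.toMonoidHom := by
      rw [hset, PairSix.closure_eq he]
    obtain ⟨Q, h1, h2, ⟨i⟩⟩ := reflection_K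
    exact ⟨Q, h1, h2, ⟨((QuotientGroup.congr _ _ ((e.subgroupMap PairSix.K₀).trans (MulEquiv.subgroupCongr hL.symm))
      (Qd.map_center_eq _)).symm.trans
      ((QuotientGroup.quotientMulEquivOfEq PairSix.center_K).trans QuotientGroup.quotientBot)).trans i⟩⟩

end Cfsg.Agent.Fi22Type
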